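import Cfsg.Agent.SolvableDivisor.Twist
import Cfsg.Agent.S0890

/-!
# Degree divisors of solvable linear groups with non-normal Sylow subgroup
-/

set_option autoImplicit false
set_option linter.unusedSectionVars false
set_option linter.style.haveILetI false
set_option maxHeartbeats 1600000

namespace CfsgLib.SolvableDivisor

open Subgroup CfsgLib.Char
open scoped commutatorElement ComplexConjugate

universe u

variable {p : ℕ} [hp : Fact p.Prime]

/-- The statement for a single group. -/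
def Claim (p : ℕ) (G : Type u) [Group G] [Finite G] : Prop :=
  ∀ χ : G → ℂ, Cfsg.IsIrrCharacter G χ → (∀ g, χ g = χ 1 → g = 1) → ∀ n : ℕ, χ 1 = n →
    ∀ P : Sylow p G, ¬ (P : Subgroup G).Normal → Good p n

variable {G : Type u} [Group G] [Finite G]

/-- The last case: the restriction to a normal subgroup of index `p` over it is irreducible. -/
theorem irreducible_case [Group.IsSolvable G] {χ : G → ℂ} (hχ : Cfsg.IsIrrCharacter G χ)
    (hfaith : ∀ g, χ g = χ 1 → g = 1) {n : ℕ} (hn : χ 1 = n) (hpn : ¬ p ∣ n) (P : Sylow p G)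
    (hP : ¬ (P : Subgroup G).Normal)
    (IH : ∀ H : Subgroup G, H ≠ ⊤ → Claim p H)
    (hPle : ∀ N : Subgroup G, N.Normal → (P : Subgroup G) ≤ N → N = ⊤)
    (U : Subgroup G) [U.Normal] (P0 : Subgroup G) [P0.Normal] (hP0P : P0 ≤ (P : Subgroup G))
    (hP0U : P0 ≤ U) (hUP : U ⊓ (P : Subgroup G) ≤ P0) (x : G) (hxP : x ∈ (P : Subgroup G))
    (hPx : (P : Subgroup G) ≤ P0 ⊔ zpowers x) (hUPne : U ⊔ (P : Subgroup G) ≠ ⊤)
    (hidx : ¬ p ∣ P0.relIndex U)
    (hirr : Cfsg.IsIrrCharacter U (fun v : U => χ v)) : Good p n := by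
  classical
  haveI := Fintype.ofFinite G
  obtain ⟨H, hH⟩ : ∃ H, U ⊔ (P : Subgroup G) = H := ⟨_, rfl⟩
  have hUH : U ≤ H := hH ▸ le_sup_left
  have hPH : (P : Subgroup G) ≤ H := hH ▸ le_sup_right
  by_cases hPn : ((P.subtype hPH : Sylow p H) : Subgroup H).Normal
  swap
  · haveI := Fintype.ofFinite H
    haveI := Fintype.ofFinite U
    have hHirr : Cfsg.IsIrrCharacter H (fun v : H => χ v) := by
      refine Cfsg.Agent.S0890.irr_of_restrict_irr (U.subgroupOf H)
        (IsCharacter.restrict (IsIrrCharacter.isCharacter hχ) H) ?_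
      exact IsIrrCharacter.comp_surjective hirr (subgroupOfEquivOfLe hUH).toMonoidHom
        (subgroupOfEquivOfLe hUH).surjective
    refine IH H (hH ▸ hUPne) _ hHirr (fun g hg => Subtype.ext (hfaith g (by simpa using hg))) n
      (by simpa using hn) (P.subtype hPH) hPn
  exfalso
  -- `U` normalises `P`
  have hcomm : ∀ w ∈ U, x * w * x⁻¹ * w⁻¹ ∈ P0 := by
    intro w hw
    refine hUP (mem_inf.2 ⟨mul_mem (‹U.Normal›.conj_mem w hw x) (inv_mem hw), ?_⟩)
    have h := hPn.conj_mem (⟨x, hPH hxP⟩⁻¹) (inv_mem (mem_subgroupOf.2 hxP)) ⟨w, hUH hw⟩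
    rw [Sylow.coe_subtype, mem_subgroupOf] at h
    simp only [Subgroup.coe_mul, InvMemClass.coe_inv] at h
    show x * w * x⁻¹ * w⁻¹ ∈ (P : Subgroup G)
    simpa [mul_assoc] using mul_mem hxP h
  have hab := normal_pGroup_comm (P.isPGroup'.to_le hP0P) hχ hfaith hn hpn
  have hP0n : P0.Normal := ‹_›
  -- the commutators `[x, z]`
  obtain ⟨c, hc⟩ : ∃ c : P0 →* G, ∀ z : P0, c z = x * z * x⁻¹ * (z : G)⁻¹ :=
    ⟨{ toFun := fun z => x * z * x⁻¹ * (z : G)⁻¹
       map_one' := by simp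
       map_mul' := fun a b => by
         have h : (x * b * x⁻¹) * (a : G)⁻¹ = (a : G)⁻¹ * (x * b * x⁻¹) :=
           hab _ (hP0n.conj_mem _ b.2 x) _ (inv_mem a.2)
         have h2 : (a : G)⁻¹ * (b : G)⁻¹ = (b : G)⁻¹ * (a : G)⁻¹ :=
           hab _ (inv_mem a.2) _ (inv_mem b.2)
         calc x * ((a * b : P0) : G) * x⁻¹ * ((a * b : P0) : G)⁻¹
             = (x * a * x⁻¹) * ((x * b * x⁻¹) * ((b : G)⁻¹ * (a : G)⁻¹)) := by
               simp [mul_assoc]
           _ = (x * a * x⁻¹) * (((x * b * x⁻¹) * (a : G)⁻¹) * (b : G)⁻¹) := by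
               rw [← h2]; simp [mul_assoc]
           _ = x * a * x⁻¹ * (a : G)⁻¹ * (x * b * x⁻¹ * (b : G)⁻¹) := by
               rw [h]; simp [mul_assoc] }, fun _ => rfl⟩
  obtain ⟨D, hD⟩ : ∃ D, c.range = D := ⟨_, rfl⟩
  have hDP : D ≤ P0 := by
    rw [← hD]
    rintro _ ⟨z, rfl⟩
    rw [hc]
    exact mul_mem (hP0n.conj_mem _ z.2 x) (inv_mem z.2)
  have hDU : D ≤ U := hDP.trans hP0U
  haveI hDn : (D.subgroupOf U).Normal := by
    refine ⟨fun d hd g => ?_⟩
    rw [mem_subgroupOf] at hd ⊢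
    rw [← hD] at hd ⊢
    obtain ⟨z, hz⟩ := hd
    refine ⟨⟨(g : G) * z * (g : G)⁻¹, hP0n.conj_mem _ z.2 g⟩, ?_⟩
    simp only [Subgroup.coe_mul, InvMemClass.coe_inv]
    rw [hc, ← hz, hc]
    obtain ⟨a, ha, hxa⟩ : ∃ a ∈ P0, x * g = a * (g * x) :=
      ⟨_, hcomm g g.2, by group⟩
    have hconj : (g : G) * x * z * x⁻¹ * (g : G)⁻¹ ∈ P0 := by
      simpa [mul_assoc] using hP0n.conj_mem _ z.2 ((g : G) * x)
    calc x * (↑(⟨(g : G) * z * (g : G)⁻¹, hP0n.conj_mem _ z.2 g⟩ : P0)) * x⁻¹ *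
          ((g : G) * z * (g : G)⁻¹)⁻¹
        = (x * g) * z * (x * g)⁻¹ * ((g : G) * z * (g : G)⁻¹)⁻¹ := by group
      _ = a * ((g : G) * x * z * x⁻¹ * (g : G)⁻¹) * a⁻¹ * ((g : G) * z * (g : G)⁻¹)⁻¹ := by
          rw [hxa]; group
      _ = _ := by rw [hab a ha _ hconj, mul_inv_cancel_right]; group
  -- `D` is trivial
  have hD1 : ∀ d ∈ D, d = 1 := by
    haveI := Fintype.ofFinite U
    haveI := Fintype.ofFinite (D.subgroupOf U)
    obtain ⟨lam, ψ, hψ, hsum⟩ := exists_linear_constituent P.isPGroup'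
      (IsIrrCharacter.isCharacter hχ) hn hpn
    obtain ⟨ι, hι⟩ : ∃ ι : D.subgroupOf U →* (P : Subgroup G), ∀ d, (ι d : G) = ((d : U) : G) :=
      ⟨{ toFun := fun d => ⟨((d : U) : G), hP0P (hDP (mem_subgroupOf.1 d.2))⟩
         map_one' := rfl
         map_mul' := fun _ _ => rfl }, fun _ => rfl⟩
    have hlam : ∀ d, lam (ι d) = 1 := by
      intro d
      have hd : ((d : U) : G) ∈ c.range := hD.symm ▸ mem_subgroupOf.1 d.2
      obtain ⟨z, hz⟩ := hd
      have : ι d = ⟨x, hxP⟩ * ⟨z, hP0P z.2⟩ * ⟨x, hxP⟩⁻¹ * ⟨z, hP0P z.2⟩⁻¹ :=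
        Subtype.ext (by rw [hι, ← hz, hc]; rfl)
      rw [this, map_mul, map_mul, map_mul, map_inv, map_inv, mul_comm (lam ⟨x, hxP⟩),
        mul_inv_cancel_right, mul_inv_cancel]
    have hres : (fun d : D.subgroupOf U => χ ((d : U) : G)) = (fun _ => (1 : ℂ)) + fun d => ψ (ι d) := by
      funext d
      have h := congrFun hsum (ι d)
      simp only [hι, Pi.add_apply, hlam, Units.val_one] at h
      exact h
    have hne : Cfsg.classInner (fun d : D.subgroupOf U => χ ((d : U) : G)) (fun _ => 1) ≠ 0 := by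
      rw [hres, classInner_add_left, classInner_one_one]
      obtain ⟨k, hk⟩ := IsCharacter.exists_classInner_eq_natCast (IsCharacter.comp hψ ι)
        (isIrrCharacter_one (G := D.subgroupOf U))
      rw [hk]
      exact_mod_cast (by omega : 1 + k ≠ 0)
    intro d hd
    have h1 := restrict_eq_smul_of_invariant (N := D.subgroupOf U) hirr isIrrCharacter_one inertia_one hne
    apply hfaith
    have e1 := congrFun h1 ⟨⟨d, hDU hd⟩, mem_subgroupOf.2 hd⟩
    have e2 := congrFun h1 1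
    simp only [Pi.smul_apply] at e1 e2
    simpa using e1.trans e2.symm
  have hxP0 : ∀ z ∈ P0, x * z = z * x := by
    intro z hz
    have h := hD1 (c ⟨z, hz⟩) (hD ▸ ⟨_, rfl⟩)
    rw [hc] at h
    rwa [mul_inv_eq_one, mul_inv_eq_iff_eq_mul] at h
  -- `P0` is central
  have hP0Z : ∀ z ∈ P0, ∀ g : G, g * z = z * g := by
    have hCn : (centralizer (P0 : Set G)).Normal := inferInstance
    have htop : centralizer (P0 : Set G) = ⊤ := by
      refine hPle _ hCn (hPx.trans (sup_le (fun z hz => ?_) ?_))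
      · exact mem_centralizer_iff.2 fun y hy => hab y hy z hz
      · exact zpowers_le.2 (mem_centralizer_iff.2 fun y hy => (hxP0 y hy).symm)
    intro z hz g
    exact (mem_centralizer_iff.1 (htop.symm ▸ mem_top g) z hz).symm
  -- `x` centralises `U`
  have hxU : ∀ w ∈ U, x * w = w * x := by
    obtain ⟨δ, hδ⟩ : ∃ δ : U →* G, ∀ w : U, δ w = x * w * x⁻¹ * (w : G)⁻¹ :=
      ⟨{ toFun := fun w => x * w * x⁻¹ * (w : G)⁻¹
         map_one' := by simp
         map_mul' := fun a b => by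
           have h := hP0Z _ (hcomm b b.2) (a : G)⁻¹
           calc x * ((a * b : U) : G) * x⁻¹ * ((a * b : U) : G)⁻¹
               = (x * a * x⁻¹) * ((x * b * x⁻¹ * (b : G)⁻¹) * (a : G)⁻¹) := by simp [mul_assoc]
             _ = (x * a * x⁻¹) * ((a : G)⁻¹ * (x * b * x⁻¹ * (b : G)⁻¹)) := by rw [h]
             _ = _ := by simp [mul_assoc] }, fun _ => rfl⟩
    intro w hw
    haveI : (P0.subgroupOf U).Normal := inferInstance
    have hk : (⟨w, hw⟩ : U) ^ P0.relIndex U ∈ P0.subgroupOf U := by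
      rw [← QuotientGroup.eq_one_iff, QuotientGroup.mk_pow, relIndex, index_eq_card]
      exact pow_card_eq_one'
    have h1 : δ ⟨w, hw⟩ ^ P0.relIndex U = 1 := by
      rw [← map_pow, hδ, hxP0 _ (mem_subgroupOf.1 hk)]
      group
    have h2 : ∃ a, δ ⟨w, hw⟩ ^ p ^ a = 1 := by
      obtain ⟨a, ha⟩ := P.isPGroup' ⟨_, hP0P (hcomm w hw)⟩
      exact ⟨a, by rw [hδ]; simpa using congrArg Subtype.val ha⟩
    obtain ⟨a, h2⟩ := h2
    have h3 : δ ⟨w, hw⟩ = 1 := by
      rw [← orderOf_eq_one_iff]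
      exact Nat.eq_one_of_dvd_coprimes
        (((hp.out.coprime_iff_not_dvd.2 hidx).pow_left a)) (orderOf_dvd_of_pow_eq_one h2)
        (orderOf_dvd_of_pow_eq_one h1)
    rw [hδ] at h3
    rwa [mul_inv_eq_one, mul_inv_eq_iff_eq_mul] at h3
  -- `x` is central
  have hxZ : x ∈ center G := by
    obtain ⟨k, ρ, hρ, hρχ⟩ := id hχ
    obtain ⟨k', σ, hσ, hσχ⟩ := id hirr
    obtain ⟨e⟩ := equiv_of_character_eq σ (ρ.comp U.subtype) (by rw [hσχ, ← hρχ]; rfl)
    haveI := hσ
    haveI := isIrreducible_of_equiv e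
    obtain ⟨s, hs⟩ := scalar_of_commute_all (ρ.comp U.subtype) (ρ x) fun w => by
      show ρ (w : G) * ρ x = ρ x * ρ (w : G)
      rw [← map_mul, ← map_mul, hxU w w.2]
    refine mem_center_iff.2 fun g => ?_
    have h1 : ρ (g * x) = ρ (x * g) := by
      rw [map_mul, map_mul, hs, mul_smul_comm, smul_mul_assoc, mul_one, one_mul]
    have h2 : χ (g * x * (x * g)⁻¹) = χ 1 := by
      rw [← hρχ]
      simp only [Representation.character]
      rw [map_mul ρ, h1, ← map_mul ρ, mul_inv_cancel]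
    exact mul_inv_eq_one.1 (hfaith _ h2)
  apply hP
  have hPZ : (P : Subgroup G) ≤ center G :=
    hPx.trans (sup_le (fun z hz => mem_center_iff.2 (hP0Z z hz)) (zpowers_le.2 hxZ))
  exact ⟨fun z hz g => by rw [mem_center_iff.1 (hPZ hz) g, mul_inv_cancel_right]; exact hz⟩

/-- The inductive step. -/
theorem step [Group.IsSolvable G]
    (IH : ∀ (K : Type u) [Group K] [Finite K] [Group.IsSolvable K], Nat.card K < Nat.card G → Claim p K) :
    Claim p G := by
  classical
  intro χ hχ hfaith n hn P hP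
  by_cases hpn : p ∣ n
  · exact good_of_dvd hp.out hpn
  haveI := Fintype.ofFinite G
  by_cases hnorm : ∀ N : Subgroup G, N.Normal → N ≠ ⊤ → ∀ S : Sylow p N, (S : Subgroup N).Normal
  swap
  · push Not at hnorm
    obtain ⟨N, hNn, hNt, S, hS⟩ := hnorm
    haveI := hNn
    haveI := Fintype.ofFinite N
    obtain ⟨ψ, hψ, d, hd, hdn, hT⟩ := exists_bad_constituent hχ hfaith hn S hS
    obtain ⟨K, hK⟩ : ∃ K, K = kerSubgroup (IsIrrCharacter.isCharacter hψ) := ⟨_, rfl⟩
    haveI hKn : K.Normal := hK ▸ kerSubgroup_normal _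
    obtain ⟨T, hT'⟩ := hT K hK
    obtain ⟨σ, hσ, hψσ⟩ := TwoClass.exists_deflate (N := K) hψ (fun y hy => by rwa [hK, mem_kerSubgroup] at hy)
    haveI : Group.IsSolvable (N ⧸ K) :=
      Group.isSolvable_of_surjective (QuotientGroup.mk'_surjective K)
    have hlt : Nat.card (N ⧸ K) < Nat.card G := by
      refine lt_of_le_of_lt (Nat.card_le_card_of_surjective _ (QuotientGroup.mk'_surjective K)) ?_
      exact lt_of_le_of_ne (card_le_card_group N) fun h => hNt (eq_top_of_card_eq N h)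
    refine (IH (N ⧸ K) hlt σ hσ ?_ d ?_ T hT').mono hdn
    · intro q hq
      induction q using QuotientGroup.induction_on with
      | H y =>
        rw [QuotientGroup.eq_one_iff, hK, mem_kerSubgroup, hψσ]
        simpa using hq
    · rw [← hd, hψσ]; rfl
  have hPle : ∀ N : Subgroup G, N.Normal → (P : Subgroup G) ≤ N → N = ⊤ := fun N hN hPN => by
    by_contra hne
    haveI := hN
    exact hP (sylow_normal_of_le P hPN (hnorm N hN hne))
  -- a maximal normal subgroup, necessarily of index `p`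
  haveI : Nontrivial G := by
    by_contra hnt
    rw [not_nontrivial_iff_subsingleton] at hnt
    exact hP ⟨fun z hz g => by rwa [Subsingleton.elim (g * z * g⁻¹) z]⟩
  obtain ⟨M, hMco, hMc⟩ := (eq_top_or_exists_le_coatom (commutator G)).resolve_left
    (Group.IsSolvable.commutator_lt_top_of_nontrivial G).ne
  haveI hMn : M.Normal := Normal.of_commutator_le _ hMc
  obtain ⟨r0, hr0, hrdvd⟩ := Nat.exists_prime_and_dvd (n := M.index) (fun h => hMco.1 (index_eq_one.1 h))
  have hMidx : M.index = r0 := by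
    haveI := Fact.mk hr0
    obtain ⟨q, hq⟩ := exists_prime_orderOf_dvd_card' (G := G ⧸ M) r0 (M.index_eq_card ▸ hrdvd)
    obtain ⟨L, hL⟩ : ∃ L, (zpowers q).comap (QuotientGroup.mk' M) = L := ⟨_, rfl⟩
    have hML : M < L := by
      refine lt_of_le_of_ne (fun y hy => ?_) fun h => ?_
      · rw [← hL, mem_comap, QuotientGroup.mk'_apply, (QuotientGroup.eq_one_iff y).2 hy]
        exact one_mem _
      · obtain ⟨g, rfl⟩ := QuotientGroup.mk'_surjective M q
        have hg : g ∈ L := hL ▸ mem_zpowers (QuotientGroup.mk' M g)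
        rw [← h] at hg
        rw [QuotientGroup.mk'_apply, (QuotientGroup.eq_one_iff g).2 hg, orderOf_one] at hq
        exact hr0.ne_one hq.symm
    have htop := hMco.2 L hML
    have hz : zpowers q = ⊤ := by
      rw [← map_comap_eq_self_of_surjective (QuotientGroup.mk'_surjective M) (zpowers q), hL, htop,
        map_top_of_surjective _ (QuotientGroup.mk'_surjective M)]
    rw [index_eq_card, ← hq, ← Nat.card_zpowers, hz, Subgroup.card_top]
  obtain ⟨j, hj⟩ := P.isPGroup'.exists_card_eq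
  have hMp : M.index = p := by
    by_contra hne
    refine hMco.1 (hPle M hMn (relIndex_eq_one.1 ?_))
    have h1 : M.relIndex (P : Subgroup G) ∣ p ^ j := hj ▸ (M.subgroupOf (P : Subgroup G)).index_dvd_card
    have h2 : M.relIndex (P : Subgroup G) ∣ r0 := hMidx ▸ relIndex_dvd_index_of_normal M _
    exact Nat.eq_one_of_dvd_coprimes (((Nat.coprime_primes hp.out hr0).2
      (fun e => hne (hMidx.trans e.symm))).pow_left j) h1 h2
  obtain ⟨hP0n, hP0idx⟩ := inf_normal_of_normal P (hnorm M hMn hMco.1)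
  obtain ⟨P0, hP0⟩ : ∃ P0, (P : Subgroup G) ⊓ M = P0 := ⟨_, rfl⟩
  rw [hP0] at hP0n hP0idx
  haveI := hP0n
  have hP0P : P0 ≤ (P : Subgroup G) := hP0 ▸ inf_le_left
  have hP0M : P0 ≤ M := hP0 ▸ inf_le_right
  obtain ⟨x, hxP, hxM⟩ : ∃ x ∈ (P : Subgroup G), x ∉ M := by
    by_contra h
    push Not at h
    exact hMco.1 (hPle M hMn h)
  have hMx : M ⊔ zpowers x = ⊤ :=
    hMco.2 _ (lt_of_le_of_ne le_sup_left fun h => hxM (h.symm ▸ mem_sup_right (mem_zpowers x)))
  have hxp : x ^ p ∈ P0 := hP0 ▸ mem_inf.2 ⟨pow_mem hxP p, by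
    rw [← QuotientGroup.eq_one_iff, QuotientGroup.mk_pow]
    have h := pow_card_eq_one' (x := (x : G ⧸ M))
    rwa [← index_eq_card, hMp] at h⟩
  have hPx : (P : Subgroup G) ≤ P0 ⊔ zpowers x := fun g hg => by
    obtain ⟨a, ha, b, hb, rfl⟩ : ∃ a ∈ M, ∃ b ∈ zpowers x, a * b = g := by
      have : g ∈ ((M ⊔ zpowers x : Subgroup G) : Set G) := by rw [hMx]; exact mem_top g
      rw [normal_mul] at this
      exact Set.mem_mul.1 this
    refine mul_mem (mem_sup_left ?_) (mem_sup_right hb)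
    refine hP0 ▸ mem_inf.2 ⟨?_, ha⟩
    simpa using mul_mem hg (inv_mem ((zpowers_le.2 hxP) hb))
  have hP0ne : P0 ≠ M := fun h => by
    apply hP
    have : (P : Subgroup G) = ⊤ := top_le_iff.1 (hMx ▸ sup_le (h ▸ hP0P) (zpowers_le.2 hxP))
    rw [this]; infer_instance
  -- `U`
  obtain ⟨U, ⟨hUn, hP0U, hUM⟩, hUmax⟩ := Set.exists_max_image
    {U : Subgroup G | U.Normal ∧ P0 ≤ U ∧ U < M} (fun U => Nat.card U) (Set.toFinite _)
    ⟨P0, hP0n, le_rfl, lt_of_le_of_ne hP0M hP0ne⟩
  haveI := hUn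
  have hmin : ∀ B : Subgroup G, B.Normal → U ≤ B → B ≤ M → B = U ∨ B = M := fun B hB hUB hBM => by
    by_contra h
    push Not at h
    exact absurd (hUmax B ⟨hB, hP0U.trans hUB, lt_of_le_of_ne hBM h.2⟩)
      (not_le.2 (lt_of_not_ge fun hle => h.1 (eq_of_le_of_card_ge hUB hle).symm))
  obtain ⟨hAab, r, m, hr, hm0, hAcard, hAmin⟩ := chief_factor hUM hmin
  obtain ⟨A, hA⟩ : ∃ A, M.map (QuotientGroup.mk' U) = A := ⟨_, rfl⟩
  rw [hA] at hAab hAcard hAmin
  haveI hAn : A.Normal := hA ▸ Normal.map hMn _ (QuotientGroup.mk'_surjective U)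
  obtain ⟨xb, hxb⟩ : ∃ xb : G ⧸ U, xb = QuotientGroup.mk' U x := ⟨_, rfl⟩
  have hUrel : U.relIndex M = Nat.card A := by
    rw [← hA, ← relIndex_ker, QuotientGroup.ker_mk']
  have hrp : r ≠ p := fun e => hP0idx (by
    have h1 : Nat.card A ∣ P0.relIndex M := hUrel ▸ relIndex_dvd_of_le_left M hP0U
    rw [hAcard, e] at h1
    exact (dvd_pow_self p hm0).trans h1)
  have hxbp : xb ^ p = 1 := by
    rw [hxb, ← map_pow, QuotientGroup.mk'_apply, QuotientGroup.eq_one_iff]
    exact hP0U hxp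
  have hAx : A ⊔ zpowers xb = ⊤ := by
    rw [← hA, hxb, ← MonoidHom.map_zpowers, ← Subgroup.map_sup, hMx,
      map_top_of_surjective _ (QuotientGroup.mk'_surjective U)]
  have hfix : ∀ a ∈ A, xb * a = a * xb → a = 1 := by
    obtain ⟨C, hC⟩ : ∃ C, A ⊓ centralizer ({xb} : Set (G ⧸ U)) = C := ⟨_, rfl⟩
    have hCn : C.Normal := by
      have hmem : ∀ g ∈ C, g ∈ A ∧ g * xb = xb * g := fun g hg => by
        rw [← hC] at hg
        exact ⟨hg.1, mem_centralizer_singleton_iff.1 hg.2⟩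
      refine normalizer_eq_top_iff.1 (top_le_iff.1 (hAx ▸ sup_le ?_ ?_))
      · intro a ha
        refine mem_normalizer_iff.2 fun g => ⟨fun hg => ?_, fun hg => ?_⟩
        · rwa [hAab a ha g (hmem g hg).1, mul_inv_cancel_right]
        · have hgA : g ∈ A := by
            have := mul_mem (mul_mem (inv_mem ha) (hmem _ hg).1) ha
            simpa [mul_assoc] using this
          rwa [hAab a ha g hgA, mul_inv_cancel_right] at hg
      · refine zpowers_le.2 (mem_normalizer_iff.2 fun g => ⟨fun hg => ?_, fun hg => ?_⟩)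
        · rwa [← (hmem g hg).2, mul_inv_cancel_right]
        · have h := (hmem _ hg).2
          have h2 : g = xb * g * xb⁻¹ := by
            calc g = xb⁻¹ * (xb * g * xb⁻¹ * xb) := by group
              _ = xb⁻¹ * (xb * (xb * g * xb⁻¹)) := by rw [h]
              _ = _ := by group
          rwa [← h2] at hg
    intro a ha hax
    rcases hAmin C hCn (hC ▸ inf_le_left) with h | h
    · exact mem_bot.1 (h ▸ hC ▸ ⟨ha, mem_centralizer_singleton_iff.2 hax.symm⟩)
    · exfalso
      have hz : xb ∈ center (G ⧸ U) := by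
        refine mem_center_iff.2 fun g => ?_
        have hle : A ⊔ zpowers xb ≤ centralizer ({xb} : Set (G ⧸ U)) :=
          sup_le (h ▸ hC ▸ inf_le_right) (zpowers_le.2 (mem_centralizer_singleton_iff.2 rfl))
        exact mem_centralizer_singleton_iff.1 (hle (hAx ▸ mem_top g))
      have hzn : (zpowers xb).Normal := ⟨fun w hw g => by
        have hw' : w ∈ center (G ⧸ U) := zpowers_le.2 hz hw
        rwa [mem_center_iff.1 hw' g, mul_inv_cancel_right]⟩
      have htop := hPle _ (hzn.comap (QuotientGroup.mk' U)) (hPx.trans (sup_le (fun z hz => by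
        rw [mem_comap, QuotientGroup.mk'_apply, (QuotientGroup.eq_one_iff z).2 (hP0U hz)]
        exact one_mem _) (zpowers_le.2 (by rw [mem_comap, ← hxb]; exact mem_zpowers xb))))
      have hz2 : zpowers xb = ⊤ := by
        rw [← map_comap_eq_self_of_surjective (QuotientGroup.mk'_surjective U) (zpowers xb), htop,
          map_top_of_surjective _ (QuotientGroup.mk'_surjective U)]
      have h1 : r ^ m ∣ p := by
        rw [← hAcard]
        refine (card_dvd_of_le (le_top : A ≤ ⊤)).trans ?_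
        rw [← hz2, Nat.card_zpowers]
        exact orderOf_dvd_of_pow_eq_one hxbp
      exact hrp ((Nat.prime_dvd_prime_iff_eq hr hp.out).1 ((dvd_pow_self r hm0).trans h1))
  have hxbA : ∀ a : A, xb * a * xb⁻¹ ∈ A := fun a => hAn.conj_mem _ a.2 xb
  obtain ⟨σ, hσ⟩ : ∃ σ : MulAut A, σ = MulAut.conjNormal xb := ⟨_, rfl⟩
  have hσp : σ ^ p = 1 := by rw [hσ, ← map_pow, hxbp, map_one]
  have hσfix : ∀ a : A, σ a = a → a = 1 := fun a ha => by
    refine Subtype.ext (hfix a a.2 ?_)
    have := congrArg Subtype.val ha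
    rw [hσ, MulAut.conjNormal_apply, mul_inv_eq_iff_eq_mul] at this
    exact this
  have hAmod : r ^ m ≡ 1 [MOD p] := by
    rw [← hAcard]
    refine card_modEq_one σ.toEquiv ?_ 1 (map_one σ) hσfix
    have hpow : ∀ k : ℕ, (σ.toEquiv : Equiv.Perm A) ^ k = (σ ^ k).toEquiv := fun k =>
      (map_pow (MulAut.toPerm A) σ k).symm
    rw [hpow, hσp]; rfl
  -- the constituent on `U`
  haveI := Fintype.ofFinite U
  obtain ⟨φ, hφ, hc⟩ := exists_constituent_restrict (N := U) hχ
  obtain ⟨e, he⟩ := IsCharacter.exists_classInner_eq_natCast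
    (IsCharacter.restrict (IsIrrCharacter.isCharacter hχ) U) hφ
  obtain ⟨d, -, hd⟩ := IsIrrCharacter.exists_degree hφ
  obtain ⟨I, hI⟩ : ∃ I, inertia φ = I := ⟨_, rfl⟩
  have hdeg : n = e * I.index * d := by
    have h := degree_eq_mul hχ hφ hc
    rw [hn, he, hd, hI] at h
    exact_mod_cast h
  have hpI : ¬ p ∣ I.index := fun h => hpn (by
    rw [hdeg]; exact dvd_mul_of_dvd_left (dvd_mul_of_dvd_right h e) d)
  have hUI : U ≤ I := hI ▸ le_inertia (IsIrrCharacter.isClassFunction hφ)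
  have hIM : I ⊔ M = ⊤ := by
    rw [← index_eq_one]
    exact Nat.eq_one_of_dvd_coprimes (hp.out.coprime_iff_not_dvd.2 hpI)
      (hMp ▸ index_dvd_of_le le_sup_right) (index_dvd_of_le le_sup_left)
  have hTn : (I ⊓ M).Normal := by
    refine normalizer_eq_top_iff.1 (top_le_iff.1 (hIM ▸ sup_le ?_ ?_))
    · intro i hi
      refine mem_normalizer_iff.2 fun g => ⟨fun hg => mem_inf.2 ⟨mul_mem (mul_mem hi hg.1) (inv_mem hi),
        hMn.conj_mem g hg.2 i⟩, fun hg => mem_inf.2 ⟨?_, ?_⟩⟩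
      · simpa [mul_assoc] using mul_mem (mul_mem (inv_mem hi) hg.1) hi
      · simpa [mul_assoc] using hMn.conj_mem _ hg.2 i⁻¹
    · intro y hy
      refine mem_normalizer_iff.2 fun g => ?_
      have key : ∀ y ∈ M, ∀ g ∈ I ⊓ M, y * g * y⁻¹ ∈ I ⊓ M := fun y hy g hg => by
        have h : y * g * y⁻¹ * g⁻¹ ∈ U := by
          rw [← QuotientGroup.eq_one_iff, QuotientGroup.mk_mul, QuotientGroup.mk_mul,
            QuotientGroup.mk_mul, QuotientGroup.mk_inv, QuotientGroup.mk_inv]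
          have e := hAab _ (hA ▸ mem_map_of_mem (QuotientGroup.mk' U) hy) _
            (hA ▸ mem_map_of_mem (QuotientGroup.mk' U) hg.2)
          simp only [QuotientGroup.mk'_apply] at e
          rw [e]; group
        have h2 := mul_mem (mem_inf.2 ⟨hUI h, hUM.le h⟩ : y * g * y⁻¹ * g⁻¹ ∈ I ⊓ M) hg
        simpa using h2
      refine ⟨key y hy g, fun hg => ?_⟩
      simpa [mul_assoc] using key y⁻¹ (inv_mem hy) _ hg
  rcases hmin (I ⊓ M) hTn (le_inf hUI hUM.le) inf_le_right with hT | hT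
  · -- the inertia group is small
    have hind : I.index = r ^ m := by
      have h1 : U.relIndex I = p := by
        rw [← hT, inf_relIndex_left, ← relIndex_sup_right, hIM, relIndex_top_right, hMp]
      have h2 := relIndex_mul_index hUI
      rw [h1, ← relIndex_mul_index hUM.le, hUrel, hAcard, hMp, mul_comm p] at h2
      exact Nat.eq_of_mul_eq_mul_right hp.out.pos h2
    exact good_of_pow hr hm0 (hdeg ▸ hind ▸ dvd_mul_of_dvd_left (dvd_mul_left _ e) d) hAmod
  have hItop : I = ⊤ := by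
    rw [← hIM, sup_eq_left.2 (hT ▸ inf_le_left : M ≤ I)]
  have hnd : n = e * d := by rw [hdeg, hItop, index_top, mul_one]
  have hUres : (fun v : U => χ v) = (e : ℂ) • φ := by
    rw [← he]; exact restrict_eq_smul_of_invariant hχ hφ (hI.trans hItop) hc
  -- the restriction to `M` is irreducible
  haveI := Fintype.ofFinite M
  obtain ⟨θ, hθ, hθc⟩ := exists_constituent_restrict (N := M) hχ
  obtain ⟨k, hk, hk1⟩ := exists_degree_ratio hχ hθ hθc
  have hk' : k = 1 := by
    refine ((Nat.dvd_prime hp.out).1 (hMp ▸ hk)).resolve_right fun h => ?_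
    obtain ⟨dd, -, hdd⟩ := IsIrrCharacter.exists_degree hθ
    rw [hn, hdd, h] at hk1
    exact hpn ⟨dd, by exact_mod_cast hk1⟩
  rw [hk', Nat.cast_one, one_mul] at hk1
  have hθeq : (fun v : M => χ v) = θ := IsCharacter.eq_of_constituent
    (IsCharacter.restrict (IsIrrCharacter.isCharacter hχ) M) hθ hθc (by simpa using hk1)
  obtain ⟨π, hπ⟩ : ∃ π : M →* A, ∀ v : M, (π v : G ⧸ U) = QuotientGroup.mk' U v :=
    ⟨((QuotientGroup.mk' U).comp M.subtype).codRestrict A fun v =>
      hA ▸ mem_map_of_mem (QuotientGroup.mk' U) v.2, fun _ => rfl⟩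
  have hπs : Function.Surjective π := fun a => by
    obtain ⟨y, hy, hya⟩ : ∃ y ∈ M, QuotientGroup.mk' U y = a := by
      have ha := a.2
      simp only [← hA, mem_map] at ha
      exact ha
    exact ⟨⟨y, hy⟩, Subtype.ext ((hπ _).trans hya)⟩
  have hkerU : ∀ v : M, π v = 1 ↔ (v : G) ∈ U := fun v => by
    rw [← QuotientGroup.eq_one_iff, ← QuotientGroup.mk'_apply, ← hπ, OneMemClass.coe_eq_one]
  have hkercard : Nat.card π.ker = Nat.card U :=
    Nat.card_congr
      { toFun := fun v => ⟨((v : M) : G), (hkerU v).1 v.2⟩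
        invFun := fun v => ⟨⟨v, hUM.le v.2⟩, (hkerU ⟨v, hUM.le v.2⟩).2 v.2⟩
        left_inv := fun _ => rfl
        right_inv := fun _ => rfl }
  have hsum : ∑ v ∈ Finset.univ.filter (fun v : M => π v = 1), θ v * conj (θ v) =
      (e : ℂ) ^ 2 * Nat.card π.ker := by
    rw [hkercard]
    have h1 : ∑ v : U, χ v * conj (χ v) = (e : ℂ) ^ 2 * Nat.card U := by
      have h2 := IsIrrCharacter.classInner_self hφ
      rw [classInner_def] at h2
      have hU0 : (Nat.card U : ℂ) ≠ 0 := by exact_mod_cast Nat.card_pos.ne'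
      have h3 : ∑ v : U, φ v * conj (φ v) = (Nat.card U : ℂ) := by
        field_simp at h2
        exact h2
      rw [← h3, Finset.mul_sum]
      refine Finset.sum_congr rfl fun v _ => ?_
      have h4 := congrFun hUres v
      simp only [Pi.smul_apply, smul_eq_mul] at h4
      rw [h4, map_mul, Complex.conj_natCast]; ring
    rw [← h1, ← hθeq]
    refine Finset.sum_bij' (fun v hv => ⟨(v : G), (hkerU v).1 (Finset.mem_filter.1 hv).2⟩)
      (fun v _ => ⟨v, hUM.le v.2⟩) (fun _ _ => Finset.mem_univ _)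
      (fun v _ => Finset.mem_filter.2 ⟨Finset.mem_univ _, (hkerU ⟨v, hUM.le v.2⟩).2 v.2⟩)
      (fun _ _ => rfl) (fun _ _ => rfl) (fun _ _ => rfl)
  obtain ⟨Λ, hΛ, hΛcard, hdual⟩ := twist_count (fun a b => Subtype.ext (hAab a a.2 b b.2)) π hπs hθ hsum
  haveI : Finite (A →* ℂˣ) := Nat.finite_of_card_ne_zero (by rw [hdual]; exact Nat.card_pos.ne')
  -- `x` permutes the stabilising twists without fixed points
  have hσπ : ∀ v : M, σ (π v) = π ⟨x * v * x⁻¹, hMn.conj_mem _ v.2 x⟩ := fun v => Subtype.ext (by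
    rw [hσ, MulAut.conjNormal_apply, hπ, hπ, map_mul, map_mul, map_inv, hxb])
  have hΛσ : ∀ lam ∈ Λ, lam.comp σ.toMonoidHom ∈ Λ := fun lam hl => (hΛ _).2 fun v => by
    rw [MonoidHom.comp_apply, MulEquiv.coe_toMonoidHom, hσπ]
    have h := (hΛ lam).1 hl ⟨x * v * x⁻¹, hMn.conj_mem _ v.2 x⟩
    rw [← hθeq] at h ⊢
    simp only at h ⊢
    rwa [IsIrrCharacter.isClassFunction hχ (v : G) x] at h
  obtain ⟨f, hf⟩ : ∃ f : Λ → Λ, ∀ l, f l = ⟨(l : A →* ℂˣ).comp σ.toMonoidHom, hΛσ l l.2⟩ :=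
    ⟨_, fun _ => rfl⟩
  have hfinj : Function.Injective f := fun a b hab => Subtype.ext (MonoidHom.ext fun y => by
    have h := congrArg Subtype.val hab
    rw [hf, hf] at h
    have h2 := DFunLike.congr_fun h (σ.symm y)
    simpa using h2)
  have hfiter : ∀ (k : ℕ) (l : Λ) (y : A), (f^[k] l : A →* ℂˣ) y = (l : A →* ℂˣ) ((σ ^ k) y) := by
    intro k
    induction k with
    | zero => intro l y; rfl
    | succ k ih =>
      intro l y
      rw [Function.iterate_succ_apply', hf]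
      show (f^[k] l : A →* ℂˣ) (σ y) = _
      rw [ih, pow_succ, MulAut.mul_apply]
  obtain ⟨τ, hτ⟩ : ∃ τ : Equiv.Perm Λ, ∀ l, τ l = f l :=
    ⟨Equiv.ofBijective f (Finite.injective_iff_bijective.1 hfinj), fun _ => rfl⟩
  have hemod : e ^ 2 ≡ 1 [MOD p] := by
    rw [← hΛcard]
    refine card_modEq_one τ ?_ 1 ?_ ?_
    · refine Equiv.ext fun l => Subtype.ext (MonoidHom.ext fun y => ?_)
      rw [Equiv.Perm.coe_pow, show (⇑τ) = f from funext hτ, hfiter, hσp]
      rfl
    · rw [hτ, hf]; rfl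
    · intro l hl
      rw [hτ, hf] at hl
      obtain ⟨g, hg⟩ : ∃ g : A → A, ∀ a, g a = σ a * a⁻¹ := ⟨_, fun _ => rfl⟩
      have hginj : Function.Injective g := fun a b hab => by
        rw [hg, hg] at hab
        refine inv_mul_eq_one.1 (hσfix (a⁻¹ * b) ?_)
        have hc : ∀ u v : A, u * v = v * u := fun u v => Subtype.ext (hAab u u.2 v v.2)
        rw [map_mul, map_inv]
        calc (σ a)⁻¹ * σ b = (σ a)⁻¹ * (σ b * b⁻¹) * b := by group
          _ = (σ a)⁻¹ * (σ a * a⁻¹) * b := by rw [hab]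
          _ = _ := by group
      refine Subtype.ext (MonoidHom.ext fun y => ?_)
      obtain ⟨a, rfl⟩ := (Finite.injective_iff_surjective.1 hginj) y
      have h := DFunLike.congr_fun (congrArg Subtype.val hl) a
      rw [hg, map_mul, map_inv]
      simp only [MonoidHom.comp_apply, MulEquiv.coe_toMonoidHom] at h
      rw [h, mul_inv_cancel]
      rfl
  by_cases he1 : e = 1
  · -- irreducible on `U`
    have hirr : Cfsg.IsIrrCharacter U (fun v : U => χ v) := by
      rw [hUres, he1, Nat.cast_one, one_smul]; exact hφ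
    refine irreducible_case hχ hfaith hn hpn P hP ?_ hPle U P0 hP0P hP0U ?_ x hxP hPx ?_ ?_ hirr
    · intro H hH
      exact IH H (lt_of_le_of_ne (card_le_card_group H) fun h => hH (eq_top_of_card_eq H h))
    · intro z hz
      exact hP0 ▸ mem_inf.2 ⟨hz.2, hUM.le hz.1⟩
    · intro h
      have hsub : A ≤ zpowers xb := by
        have h1 : (U ⊔ (P : Subgroup G)).map (QuotientGroup.mk' U) ≤ zpowers xb := by
          rw [Subgroup.map_sup, QuotientGroup.map_mk'_self, bot_sup_eq, map_le_iff_le_comap]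
          refine hPx.trans (sup_le (fun z hz => ?_) (zpowers_le.2 (by rw [mem_comap, ← hxb]; exact mem_zpowers xb)))
          rw [mem_comap, QuotientGroup.mk'_apply, (QuotientGroup.eq_one_iff z).2 (hP0U hz)]
          exact one_mem _
        rw [h, map_top_of_surjective _ (QuotientGroup.mk'_surjective U)] at h1
        exact le_top.trans h1
      have h2 : r ^ m ∣ p := hAcard ▸ (card_dvd_of_le hsub).trans
        (by rw [Nat.card_zpowers]; exact orderOf_dvd_of_pow_eq_one hxbp)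
      exact hrp ((Nat.prime_dvd_prime_iff_eq hr hp.out).1 ((dvd_pow_self r hm0).trans h2))
    · intro h
      exact hP0idx (h.trans (relIndex_mul_relIndex P0 U M hP0U hUM.le ▸ dvd_mul_right _ _))
  have h2 : e ^ 2 ∣ r ^ m := by
    rw [← hΛcard, ← hAcard, ← hdual]; exact card_subgroup_dvd_card Λ
  obtain ⟨c, -, hc'⟩ := (Nat.dvd_prime_pow hr).1 ((dvd_pow_self e two_ne_zero).trans h2)
  have hc0 : c ≠ 0 := fun h => he1 (by rw [hc', h, pow_zero])
  exact good_of_sq hp.out hr hc0 (hc' ▸ hnd ▸ dvd_mul_right e d) (hc' ▸ hemod)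

theorem main : ∀ (m : ℕ) (G : Type u) [Group G] [Finite G] [Group.IsSolvable G],
    Nat.card G ≤ m → Claim p G := by
  intro m
  induction m with
  | zero => intro G _ _ _ h; exact absurd (Nat.card_pos (α := G)) (not_lt.2 h)
  | succ m ih =>
    intro G _ _ _ hcard
    exact step fun K _ _ _ hlt => ih K (Nat.lt_succ_iff.1 (lt_of_lt_of_le hlt hcard))

end CfsgLib.SolvableDivisor
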