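import Cfsg.Prelude.Def_Blocks
import Cfsg.Agent.Char.DegreeRatio
import Cfsg.Agent.Char.TwoClass
import Cfsg.Agent.Char.LinearTwist
import Cfsg.Agent.Char.Linear
import Cfsg.Agent.Char.NormalSub
import Cfsg.Agent.Char.Equivalence
import Cfsg.Agent.Char.Central
import Mathlib.GroupTheory.Sylow
import Mathlib.GroupTheory.Solvable
import Mathlib.GroupTheory.Perm.Cycle.Type
import Mathlib.GroupTheory.SpecificGroups.Cyclic

/-!
# Tools for the degree divisor theorem of solvable linear groups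
-/

set_option autoImplicit false
set_option linter.unusedSectionVars false
set_option linter.style.haveILetI false

namespace CfsgLib.SolvableDivisor

open Subgroup CfsgLib.Char
open scoped commutatorElement ComplexConjugate

universe u v

/-- `n` has a prime power divisor congruent to `-1`, `0` or `1` modulo `p`. -/
def Good (p n : ℕ) : Prop :=
  ∃ q : ℕ, IsPrimePow q ∧ q ∣ n ∧
    ((q : ℤ) ≡ -1 [ZMOD p] ∨ (q : ℤ) ≡ 0 [ZMOD p] ∨ (q : ℤ) ≡ 1 [ZMOD p])

theorem Good.mono {p d n : ℕ} (h : Good p d) (hd : d ∣ n) : Good p n := by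
  obtain ⟨q, h1, h2, h3⟩ := h
  exact ⟨q, h1, h2.trans hd, h3⟩

theorem good_of_dvd {p n : ℕ} (hp : p.Prime) (h : p ∣ n) : Good p n :=
  ⟨p, hp.isPrimePow, h, Or.inr (Or.inl ((Int.modEq_zero_iff_dvd).2 dvd_rfl))⟩

theorem good_of_pow {p n r c : ℕ} (hr : r.Prime) (hc : c ≠ 0) (hd : r ^ c ∣ n)
    (h : r ^ c ≡ 1 [MOD p]) : Good p n :=
  ⟨r ^ c, (hr.isPrimePow).pow hc, hd, Or.inr (Or.inr (by exact_mod_cast (Int.natCast_modEq_iff.2 h)))⟩

theorem good_of_sq {p n r c : ℕ} (hp : p.Prime) (hr : r.Prime) (hc : c ≠ 0) (hd : r ^ c ∣ n)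
    (h : (r ^ c) ^ 2 ≡ 1 [MOD p]) : Good p n := by
  haveI := Fact.mk hp
  refine ⟨r ^ c, (hr.isPrimePow).pow hc, hd, ?_⟩
  have h1 : ((r ^ c : ℕ) : ZMod p) ^ 2 = 1 := by
    have h2 := (ZMod.natCast_eq_natCast_iff _ _ _).2 h
    push_cast at h2 ⊢
    exact h2
  rcases sq_eq_one_iff.1 h1 with h2 | h2
  · exact Or.inr (Or.inr ((ZMod.intCast_eq_intCast_iff _ _ p).1 (by push_cast; exact_mod_cast h2)))
  · exact Or.inl ((ZMod.intCast_eq_intCast_iff _ _ p).1 (by push_cast at h2 ⊢; exact h2))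

/-- A permutation of prime order with a single fixed point. -/
theorem card_modEq_one {p : ℕ} [Fact p.Prime] {α : Type v} [Finite α] (σ : Equiv.Perm α)
    (hσ : σ ^ p = 1) (a : α) (ha : σ a = a) (huniq : ∀ b, σ b = b → b = a) :
    Nat.card α ≡ 1 [MOD p] := by
  classical
  haveI := Fintype.ofFinite α
  have h : σ.supportᶜ = {a} := by
    ext b
    simp only [Finset.mem_compl, Equiv.Perm.mem_support, ne_eq, not_not, Finset.mem_singleton]
    exact ⟨huniq b, fun hb => hb ▸ ha⟩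
  have h2 := Equiv.Perm.card_compl_support_modEq (n := 1) (p := p) (σ := σ) (by rwa [pow_one])
  rw [h, Finset.card_singleton, ← Nat.card_eq_fintype_card] at h2
  exact h2.symm

variable {G : Type u} [Group G] [Finite G] {p : ℕ} [hp : Fact p.Prime]

/-- A `p`-group inside a normal subgroup with normal Sylow subgroup, `G`-wide. -/
theorem sylow_normal_of_le {N : Subgroup G} [N.Normal] (P : Sylow p G) (hPN : (P : Subgroup G) ≤ N)
    (hN : ∀ S : Sylow p N, (S : Subgroup N).Normal) : (P : Subgroup G).Normal := by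
  haveI := (P.subtype hPN).characteristic_of_normal (hN _)
  have h := ConjAct.normal_of_characteristic_of_normal (H := N) (K := (P.subtype hPN : Subgroup N))
  rwa [Sylow.coe_subtype, map_subgroupOf_eq_of_le hPN] at h

/-- The Sylow subgroup of a normal subgroup with normal Sylow subgroup is `P ⊓ N`. -/
theorem inf_normal_of_normal {N : Subgroup G} [N.Normal] (P : Sylow p G)
    (hN : ∀ S : Sylow p N, (S : Subgroup N).Normal) :
    ((P : Subgroup G) ⊓ N).Normal ∧ ¬ p ∣ ((P : Subgroup G) ⊓ N).relIndex N := by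
  obtain ⟨S⟩ : Nonempty (Sylow p N) := inferInstance
  haveI := S.characteristic_of_normal (hN S)
  haveI hn : ((S : Subgroup N).map N.subtype).Normal :=
    ConjAct.normal_of_characteristic_of_normal (H := N) (K := (S : Subgroup N))
  have hle : (S : Subgroup N).map N.subtype ≤ P :=
    (S.isPGroup'.map N.subtype).le_sylow_of_normal P
  have hpg : IsPGroup p (((P : Subgroup G) ⊓ N).subgroupOf N) :=
    (P.isPGroup'.to_le inf_le_left).comap_subtype
  have h1 : ((P : Subgroup G) ⊓ N).subgroupOf N = S := S.3 hpg fun z hz => by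
    exact mem_subgroupOf.2 ⟨hle (mem_map_of_mem _ hz), z.2⟩
  have h2 : (P : Subgroup G) ⊓ N = (S : Subgroup N).map N.subtype := by
    rw [← h1, map_subgroupOf_eq_of_le inf_le_right]
  refine ⟨h2 ▸ hn, ?_⟩
  rw [relIndex, h1]
  exact S.not_dvd_index

/-- Linear constituents: the restriction of a character of degree prime to `p` to a `p`-group has
a linear constituent. -/
theorem exists_linear_constituent {P : Subgroup G} (hP : IsPGroup p P) {χ : G → ℂ}
    (hχ : Cfsg.IsCharacter G χ) {n : ℕ} (hn : χ 1 = n) (hpn : ¬ p ∣ n) :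
    ∃ (lam : P →* ℂˣ) (ψ : P → ℂ), Cfsg.IsCharacter P ψ ∧
      (fun y : P => χ y) = (fun y : P => (lam y : ℂ)) + ψ := by
  classical
  haveI := Fintype.ofFinite P
  obtain ⟨s, hs, hsum⟩ := IsCharacter.exists_multiset (IsCharacter.restrict hχ P)
  have hval : ∀ t : Multiset (P → ℂ), t.sum 1 = (t.map fun ψ => ψ 1).sum := fun t =>
    map_multiset_sum (Pi.evalAddMonoidHom (fun _ : P => ℂ) 1) t
  choose! d hd0 hd using fun (ψ : P → ℂ) (h : ψ ∈ s) => IsIrrCharacter.exists_degree (hs ψ h)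
  have hdeg : (s.map d).sum = n := by
    have h := congrFun hsum 1
    rw [hval, Multiset.map_congr rfl hd] at h
    have h2 : ((n : ℕ) : ℂ) = (((s.map d).sum : ℕ) : ℂ) := by
      rw [← hn, Nat.cast_multiset_sum, Multiset.map_map]
      exact h
    exact_mod_cast h2.symm
  obtain ⟨ψ, hψ, hψ1⟩ : ∃ ψ ∈ s, d ψ = 1 := by
    by_contra hall
    push Not at hall
    apply hpn
    rw [← hdeg]
    refine Multiset.dvd_sum fun k hk => ?_
    obtain ⟨ψ, hψ, rfl⟩ := Multiset.mem_map.1 hk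
    obtain ⟨a, ha⟩ := hP.exists_card_eq
    obtain ⟨i, -, hi⟩ := (Nat.dvd_prime_pow hp.out).1
      (ha ▸ IsIrrCharacter.degree_dvd_card (hs ψ hψ) (hd ψ hψ))
    rcases i with _ | i
    · exact absurd (by simpa using hi) (hall ψ hψ)
    · exact hi ▸ dvd_pow_self p (Nat.succ_ne_zero i)
  obtain ⟨lam, hlam⟩ := IsCharacter.exists_hom (IsIrrCharacter.isCharacter (hs ψ hψ))
    (by rw [hd ψ hψ, hψ1, Nat.cast_one])
  obtain ⟨t, rfl⟩ := Multiset.exists_cons_of_mem hψ
  refine ⟨lam, t.sum, ?_, by rw [hsum, Multiset.sum_cons, hlam]⟩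
  refine Multiset.sum_induction _ t (fun a b => IsCharacter.add) isCharacter_zero fun f hf => ?_
  exact IsIrrCharacter.isCharacter (hs f (Multiset.mem_cons_of_mem hf))

/-- A normal `p`-subgroup of a group with a faithful irreducible character of degree prime to `p`
is abelian. -/
theorem normal_pGroup_comm {Q : Subgroup G} [Q.Normal] (hQ : IsPGroup p Q) {χ : G → ℂ}
    (hχ : Cfsg.IsIrrCharacter G χ) (hfaith : ∀ g, χ g = χ 1 → g = 1) {n : ℕ} (hn : χ 1 = n)
    (hpn : ¬ p ∣ n) : ∀ a ∈ Q, ∀ b ∈ Q, a * b = b * a := by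
  classical
  haveI := Fintype.ofFinite G
  haveI := Fintype.ofFinite Q
  obtain ⟨θ, hθ, hc⟩ := exists_constituent_restrict (N := Q) hχ
  obtain ⟨k, -, hk⟩ := exists_degree_ratio hχ hθ hc
  obtain ⟨d, -, hd⟩ := IsIrrCharacter.exists_degree hθ
  obtain ⟨a, ha⟩ := hQ.exists_card_eq
  obtain ⟨i, -, hi⟩ := (Nat.dvd_prime_pow hp.out).1 (ha ▸ IsIrrCharacter.degree_dvd_card hθ hd)
  have hnk : n = k * d := by
    rw [hn, hd] at hk
    exact_mod_cast hk
  have hθ1 : θ 1 = 1 := by
    rcases i with _ | i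
    · rw [hd, hi, pow_zero, Nat.cast_one]
    · exact absurd (hnk ▸ dvd_mul_of_dvd_right (hi ▸ dvd_pow_self p (Nat.succ_ne_zero i)) k) hpn
  have hab : ∀ x y : Q, x * y * x⁻¹ * y⁻¹ = 1 := fun x y => by
    refine Subtype.ext (hfaith _ ?_)
    have h1 := congrFun (restrict_eq_smul_sum hχ hθ hc) (x * y * x⁻¹ * y⁻¹)
    have h2 := congrFun (restrict_eq_smul_sum hχ hθ hc) 1
    simp only [OneMemClass.coe_one, Pi.smul_apply, Finset.sum_apply] at h1 h2
    rw [h1, h2]
    congr 1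
    refine Finset.sum_congr rfl fun ψ hψ => ?_
    obtain ⟨g, rfl⟩ := mem_conjOrbit.1 hψ
    obtain ⟨lam, hlam⟩ := IsCharacter.exists_hom
      (IsIrrCharacter.isCharacter (isIrrCharacter_conjOn hθ g)) (by rw [conjOn_apply_one, hθ1])
    rw [hlam]
    simp [mul_comm]
  intro x hx y hy
  have h := congrArg Subtype.val (hab ⟨x, hx⟩ ⟨y, hy⟩)
  simp only [Subgroup.coe_mul, InvMemClass.coe_inv, OneMemClass.coe_one, 
    mul_inv_eq_iff_eq_mul, one_mul] at h
  exact h

/-- The constituent of the restriction to a subgroup with non-normal Sylow subgroup. -/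
theorem exists_bad_constituent [Fintype G] {N : Subgroup G} [N.Normal] [Fintype N] {χ : G → ℂ}
    (hχ : Cfsg.IsIrrCharacter G χ) (hfaith : ∀ g, χ g = χ 1 → g = 1) {n : ℕ} (hn : χ 1 = n)
    (S : Sylow p N) (hS : ¬ (S : Subgroup N).Normal) :
    ∃ (ψ : N → ℂ) (hψ : Cfsg.IsIrrCharacter N ψ) (d : ℕ), ψ 1 = d ∧ d ∣ n ∧
      ∀ (K : Subgroup N), K = kerSubgroup (IsIrrCharacter.isCharacter hψ) → ∀ [K.Normal],
        ∃ T : Sylow p (N ⧸ K), ¬ (T : Subgroup (N ⧸ K)).Normal := by
  classical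
  obtain ⟨θ, hθ, hc⟩ := exists_constituent_restrict (N := N) hχ
  obtain ⟨d, -, hd⟩ := IsIrrCharacter.exists_degree hθ
  obtain ⟨k, -, hk⟩ := exists_degree_ratio hχ hθ hc
  have hdn : d ∣ n := by
    rw [hn, hd] at hk
    exact ⟨k, by rw [mul_comm]; exact_mod_cast hk⟩
  by_contra hcon
  push Not at hcon
  obtain ⟨X, hX⟩ : ∃ X, closure {y : N | ∃ j, y ^ p ^ j = 1} = X := ⟨_, rfl⟩
  obtain ⟨a, ha⟩ := S.isPGroup'.exists_card_eq
  have hker : ∀ ψ ∈ conjOrbit θ, ∀ y ∈ X, ψ (y ^ p ^ a) = ψ 1 := by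
    intro ψ hψ y hy
    obtain ⟨g, rfl⟩ := mem_conjOrbit.1 hψ
    obtain ⟨K, hKeq, hKn, hT⟩ := hcon _ (isIrrCharacter_conjOn hθ g) d (by rw [conjOn_apply_one, hd]) hdn
    haveI := hKn
    obtain ⟨T⟩ : Nonempty (Sylow p (N ⧸ K)) := inferInstance
    haveI := hT T
    haveI := T.unique_of_normal (hT T)
    have hyT : QuotientGroup.mk' K y ∈ (T : Subgroup (N ⧸ K)) := by
      have hle : X ≤ (T : Subgroup (N ⧸ K)).comap (QuotientGroup.mk' K) := by
        rw [← hX, closure_le]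
        rintro z ⟨j, hj⟩
        have hz : IsPGroup p (zpowers (QuotientGroup.mk' K z)) := by
          rintro ⟨w, hw⟩
          obtain ⟨i, rfl⟩ := mem_zpowers_iff.1 hw
          refine ⟨j, Subtype.ext ?_⟩
          rw [SubgroupClass.coe_pow, OneMemClass.coe_one, ← zpow_natCast, ← zpow_mul, mul_comm, zpow_mul,
            zpow_natCast, ← map_pow, hj, map_one, one_zpow]
        obtain ⟨T', hT'⟩ := hz.exists_le_sylow
        rw [Subsingleton.elim T' T] at hT'
        exact hT' (mem_zpowers _)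
      exact hle hy
    obtain ⟨b, hb⟩ := T.isPGroup'.exists_card_eq
    have hba : p ^ b ∣ p ^ a := by
      have hdvd : p ^ b ∣ Nat.card N :=
        hb ▸ (card_subgroup_dvd_card _).trans (K.index_eq_card ▸ K.index_dvd_card)
      rw [S.card_eq_multiplicity] at ha
      exact ha ▸ pow_dvd_pow p ((hp.out.pow_dvd_iff_le_factorization Nat.card_pos.ne').1 hdvd)
    have h1 : (QuotientGroup.mk' K y) ^ p ^ a = 1 := by
      obtain ⟨c, hc⟩ := hba
      have h := congrArg Subtype.val (pow_card_eq_one' (x := (⟨_, hyT⟩ : (T : Subgroup (N ⧸ K)))))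
      simp only [SubgroupClass.coe_pow, OneMemClass.coe_one] at h
      rw [hb] at h
      rw [hc, pow_mul, h, one_pow]
    rw [← map_pow, QuotientGroup.mk'_apply, QuotientGroup.eq_one_iff, hKeq] at h1
    exact h1
  have hXp : IsPGroup p X := fun y => ⟨a, Subtype.ext (Subtype.ext (by
    have h1 := congrFun (restrict_eq_smul_sum hχ hθ hc) ((y : N) ^ p ^ a)
    have h2 := congrFun (restrict_eq_smul_sum hχ hθ hc) 1
    simp only [Pi.smul_apply, Finset.sum_apply] at h1 h2
    rw [Finset.sum_congr rfl fun ψ hψ => hker ψ hψ y y.2] at h1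
    simpa using hfaith _ (h1.trans h2.symm)))⟩
  have hXS : X = S := S.3 hXp fun z hz => by
    obtain ⟨j, hj⟩ := S.isPGroup' ⟨z, hz⟩
    exact hX ▸ subset_closure ⟨j, by simpa using congrArg Subtype.val hj⟩
  apply hS
  rw [← hXS, ← hX]
  have : closure {y : N | ∃ j, y ^ p ^ j = 1} = normalClosure {y : N | ∃ j, y ^ p ^ j = 1} := by
    refine le_antisymm closure_le_normalClosure (closure_mono ?_)
    intro y hy
    obtain ⟨z, ⟨j, hj⟩, hzy⟩ := Group.mem_conjugatesOfSet_iff.1 hy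
    obtain ⟨c, rfl⟩ := isConj_iff.1 hzy
    exact ⟨j, by rw [conj_pow, hj]; simp⟩
  rw [this]; infer_instance

end CfsgLib.SolvableDivisor
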