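import Cfsg.Agent.SolvableDivisor.Tools

/-!
# Linear twists fixing a character and solvable chief factors
-/

set_option autoImplicit false
set_option linter.unusedSectionVars false
set_option linter.style.haveILetI false

namespace CfsgLib.SolvableDivisor

open Subgroup CfsgLib.Char
open scoped commutatorElement ComplexConjugate

universe u v

/-- If the restriction of `θ` to the kernel of a map onto an abelian group has norm `e ^ 2`, then
`e ^ 2` linear twists fix `θ`. -/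
theorem twist_count {M : Type u} [Group M] [Fintype M] {A : Type v} [Group A] [Finite A]
    [DecidableEq A]
    (hA : ∀ a b : A, a * b = b * a) (π : M →* A) (hπ : Function.Surjective π) {θ : M → ℂ}
    (hθ : Cfsg.IsIrrCharacter M θ) {e : ℕ}
    (hsum : ∑ m ∈ Finset.univ.filter (fun m : M => π m = 1), θ m * conj (θ m) =
      (e : ℂ) ^ 2 * Nat.card π.ker) :
    ∃ Λ : Subgroup (A →* ℂˣ), (∀ lam, lam ∈ Λ ↔ ∀ m, (lam (π m) : ℂ) * θ m = θ m) ∧
      Nat.card Λ = e ^ 2 ∧ Nat.card (A →* ℂˣ) = Nat.card A := by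
  classical
  have hcom : commutator A = ⊥ := by
    rw [commutator_eq_closure, closure_eq_bot_iff]
    rintro g ⟨a, b, rfl⟩
    simp [commutatorElement_def, hA a b]
  have hcard : Nat.card (A →* ℂˣ) = Nat.card A := by
    rw [card_hom_eq_index_commutator, hcom, index_bot]
  haveI : Finite (A →* ℂˣ) := Nat.finite_of_card_ne_zero (by rw [hcard]; exact Nat.card_pos.ne')
  haveI := Fintype.ofFinite (A →* ℂˣ)
  obtain ⟨Λ, hΛ⟩ : ∃ Λ : Subgroup (A →* ℂˣ), ∀ lam, lam ∈ Λ ↔ ∀ m, (lam (π m) : ℂ) * θ m = θ m :=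
    ⟨{ carrier := {lam | ∀ m, (lam (π m) : ℂ) * θ m = θ m}
       one_mem' := fun m => by simp
       mul_mem' := fun {a b} ha hb m => by
         rw [MonoidHom.mul_apply, Units.val_mul, mul_assoc, hb m, ha m]
       inv_mem' := fun {a} ha m => by
         conv_lhs => rw [← ha m]
         rw [← mul_assoc, ← Units.val_mul, MonoidHom.inv_apply, inv_mul_cancel, Units.val_one,
           one_mul] }, fun _ => Iff.rfl⟩
  refine ⟨Λ, hΛ, ?_, hcard⟩
  have hterm : ∀ lam : A →* ℂˣ, Cfsg.classInner (θ * fun m => (lam (π m) : ℂ)) θ =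
      if lam ∈ Λ then 1 else 0 := fun lam => by
    have hirr : Cfsg.IsIrrCharacter M (θ * fun m => (lam (π m) : ℂ)) :=
      IsIrrCharacter.mul_hom hθ (lam.comp π)
    rw [IsIrrCharacter.classInner_eq hirr hθ]
    refine if_congr ⟨fun h => (hΛ lam).2 fun m => ?_, fun h => funext fun m => ?_⟩ rfl rfl
    · rw [mul_comm]; exact congrFun h m
    · rw [Pi.mul_apply, mul_comm]; exact (hΛ lam).1 h m
  have horth : ∀ a : A, ∑ lam : A →* ℂˣ, (lam a : ℂ) = if a = 1 then (Nat.card A : ℂ) else 0 := by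
    intro a
    split_ifs with h
    · rw [h, ← hcard, Nat.card_eq_fintype_card]
      simp
    · obtain ⟨mu, hmu⟩ := exists_hom_ne_one (g := a) (by rw [hcom, mem_bot]; exact h)
      have hs : (mu a : ℂ) * ∑ lam : A →* ℂˣ, (lam a : ℂ) = ∑ lam : A →* ℂˣ, (lam a : ℂ) := by
        rw [Finset.mul_sum]
        exact Fintype.sum_equiv (Equiv.mulLeft mu) _ _ fun lam => by
          simp [MonoidHom.mul_apply]
      exact (mul_left_eq_self₀.1 hs).resolve_left fun h1 => hmu (Units.ext h1)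
  have hL : ∑ lam : A →* ℂˣ, Cfsg.classInner (θ * fun m => (lam (π m) : ℂ)) θ = (Nat.card Λ : ℂ) := by
    rw [Finset.sum_congr rfl fun lam _ => hterm lam, Finset.sum_boole, Nat.card_eq_fintype_card,
      ← Fintype.card_subtype]
  have hR : ∑ lam : A →* ℂˣ, Cfsg.classInner (θ * fun m => (lam (π m) : ℂ)) θ =
      (Nat.card A : ℂ) * ((e : ℂ) ^ 2 * Nat.card π.ker) / Nat.card M := by
    simp only [classInner_def, Pi.mul_apply]
    rw [← Finset.mul_sum, Finset.sum_comm, ← hsum, Finset.sum_filter, mul_comm _⁻¹, ← div_eq_mul_inv]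
    congr 1
    rw [Finset.mul_sum]
    refine Finset.sum_congr rfl fun m _ => ?_
    calc ∑ lam : A →* ℂˣ, θ m * (lam (π m) : ℂ) * conj (θ m)
        = (θ m * conj (θ m)) * ∑ lam : A →* ℂˣ, (lam (π m) : ℂ) := by
          rw [Finset.mul_sum]; exact Finset.sum_congr rfl fun lam _ => by ring
      _ = _ := by rw [horth]; split_ifs <;> ring
  have hMcard : Nat.card M = Nat.card A * Nat.card π.ker := by
    rw [← π.ker.card_mul_index, index_ker, MonoidHom.range_eq_top.2 hπ, Subgroup.card_top, mul_comm]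
  rw [hL, hMcard, Nat.cast_mul] at hR
  have h1 : (Nat.card A : ℂ) ≠ 0 := by exact_mod_cast Nat.card_pos.ne'
  have h2 : (Nat.card π.ker : ℂ) ≠ 0 := by exact_mod_cast Nat.card_pos.ne'
  have h3 : (Nat.card Λ : ℂ) = ((e ^ 2 : ℕ) : ℂ) := by
    rw [hR]; push_cast; field_simp
  exact_mod_cast h3

variable {G : Type u} [Group G] [Finite G]

/-- A chief factor of a solvable group is abelian of prime power order. -/
theorem chief_factor [Group.IsSolvable G] {U M : Subgroup G} [U.Normal] [M.Normal] (hUM : U < M)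
    (hmin : ∀ B : Subgroup G, B.Normal → U ≤ B → B ≤ M → B = U ∨ B = M) :
    (∀ a ∈ M.map (QuotientGroup.mk' U), ∀ b ∈ M.map (QuotientGroup.mk' U), a * b = b * a) ∧
      ∃ r m : ℕ, r.Prime ∧ m ≠ 0 ∧ Nat.card (M.map (QuotientGroup.mk' U)) = r ^ m ∧
        ∀ B : Subgroup (G ⧸ U), B.Normal → B ≤ M.map (QuotientGroup.mk' U) →
          B = ⊥ ∨ B = M.map (QuotientGroup.mk' U) := by
  haveI : Group.IsSolvable (G ⧸ U) := Group.isSolvable_of_surjective (QuotientGroup.mk'_surjective U)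
  have hsur := QuotientGroup.mk'_surjective U
  obtain ⟨A, hAdef⟩ : ∃ A, M.map (QuotientGroup.mk' U) = A := ⟨_, rfl⟩
  rw [hAdef]
  haveI hAn : A.Normal := hAdef ▸ Normal.map ‹M.Normal› _ hsur
  have hB : ∀ B : Subgroup (G ⧸ U), B.Normal → B ≤ A → B = ⊥ ∨ B = A := by
    intro B hBn hBA
    have h1 : U ≤ B.comap (QuotientGroup.mk' U) := fun u hu => by
      rw [mem_comap, QuotientGroup.mk'_apply, (QuotientGroup.eq_one_iff u).2 hu]
      exact one_mem B
    have h2 : B.comap (QuotientGroup.mk' U) ≤ M := by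
      refine (comap_mono hBA).trans ?_
      rw [← hAdef, comap_map_eq, QuotientGroup.ker_mk', sup_eq_left.2 hUM.le]
    rcases hmin _ (hBn.comap _) h1 h2 with h | h
    · left
      rw [← map_comap_eq_self_of_surjective hsur B, h, QuotientGroup.map_mk'_self]
    · right
      rw [← map_comap_eq_self_of_surjective hsur B, h, hAdef]
  have hA0 : A ≠ ⊥ := fun h => by
    rw [← hAdef, Subgroup.map_eq_bot_iff, QuotientGroup.ker_mk'] at h
    exact hUM.not_ge h
  have hcomm : ⁅A, A⁆ = ⊥ :=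
    (hB _ (commutator_normal A A) (commutator_le_left A A)).resolve_right
      (Group.IsSolvable.commutator_lt_of_ne_bot hA0).ne
  have hab : ∀ a ∈ A, ∀ b ∈ A, a * b = b * a := fun a ha b hb =>
    commutatorElement_eq_one_iff_mul_comm.1
      (mem_bot.1 (hcomm ▸ commutator_mem_commutator ha hb))
  refine ⟨hab, ?_⟩
  have hA1 : Nat.card A ≠ 1 := fun h => hA0 (Subgroup.card_eq_one.1 h)
  obtain ⟨r, hr, hrA⟩ := Nat.exists_prime_and_dvd hA1
  haveI := Fact.mk hr
  obtain ⟨Ar, hAr⟩ : ∃ Ar : Subgroup (G ⧸ U), ∀ a, a ∈ Ar ↔ a ∈ A ∧ a ^ r = 1 :=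
    ⟨{ carrier := {a | a ∈ A ∧ a ^ r = 1}
       one_mem' := ⟨one_mem A, one_pow r⟩
       mul_mem' := fun {a b} ha hb => ⟨mul_mem ha.1 hb.1, by
         rw [Commute.mul_pow (hab a ha.1 b hb.1 : Commute a b), ha.2, hb.2, one_mul]⟩
       inv_mem' := fun {a} ha => ⟨inv_mem ha.1, by rw [inv_pow, ha.2, inv_one]⟩ }, fun _ => Iff.rfl⟩
  have hArn : Ar.Normal := ⟨fun a ha g => (hAr _).2 ⟨hAn.conj_mem _ ((hAr a).1 ha).1 g, by
    rw [conj_pow, ((hAr a).1 ha).2]; simp⟩⟩
  have hArA : Ar = A := by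
    refine (hB _ hArn fun a ha => ((hAr a).1 ha).1).resolve_left fun h => ?_
    obtain ⟨y, hy⟩ := exists_prime_orderOf_dvd_card' r hrA
    have hmem : (y : G ⧸ U) ∈ Ar := (hAr _).2 ⟨y.2, by
      rw [← SubgroupClass.coe_pow, ← hy, pow_orderOf_eq_one]; rfl⟩
    rw [h, mem_bot] at hmem
    have : y = 1 := Subtype.ext hmem
    rw [this, orderOf_one] at hy
    exact hr.ne_one hy.symm
  have hpA : IsPGroup r A := fun a => ⟨1, Subtype.ext (by
    rw [pow_one, SubgroupClass.coe_pow]; exact ((hAr _).1 (hArA.symm ▸ a.2)).2)⟩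
  obtain ⟨m, hm⟩ := hpA.exists_card_eq
  exact ⟨r, m, hr, fun h0 => hA1 (by rw [hm, h0, pow_zero]), hm, hB⟩

end CfsgLib.SolvableDivisor
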